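import Mathlib
import Cfsg.Agent.Lib.Helper79.CS3.EndDefs

/-!
# CS3 (S4284), part [END], package [ORB]

`P` acts by conjugation on `Q ∖ {1}`; if all point stabilisers are `A ⊓ P` then
`|P : A ⊓ P|` divides `|Q| - 1`.
-/

set_option autoImplicit false

namespace Cfsg.Agent.Lib.Helper97.CS3

open Cfsg.Agent.Lib.Helper79.CS3

universe u

theorem pkgOrb : PkgOrb.{u} := by
  intro G _ _ Q P A hQn hA
  classical
  let X := {y : Q // y ≠ 1}
  let _ : MulAction P X :=
    { smul := fun g y => ⟨⟨(g : G) * ((y : Q) : G) * (g : G)⁻¹, hQn.conj_mem _ (y : Q).2 g⟩, by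
          intro h
          apply y.2
          have h1 : (g : G) * ((y : Q) : G) * (g : G)⁻¹ = 1 := congrArg Subtype.val h
          apply Subtype.ext
          have h2 : ((y : Q) : G) =
              (g : G)⁻¹ * ((g : G) * ((y : Q) : G) * (g : G)⁻¹) * (g : G) := by group
          rw [h2, h1]; simp⟩
      one_smul := by
        intro y
        apply Subtype.ext; apply Subtype.ext
        show ((1 : P) : G) * ((y : Q) : G) * ((1 : P) : G)⁻¹ = ((y : Q) : G)
        simp
      mul_smul := by
        intro g h y
        apply Subtype.ext; apply Subtype.ext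
        show ((g * h : P) : G) * ((y : Q) : G) * ((g * h : P) : G)⁻¹ =
          (g : G) * ((h : G) * ((y : Q) : G) * (h : G)⁻¹) * (g : G)⁻¹
        simp [mul_assoc] }
  have hsmul : ∀ (g : P) (x : X), (((g • x : X) : Q) : G) = (g : G) * ((x : Q) : G) * (g : G)⁻¹ :=
    fun g x => rfl
  have hstab : ∀ x : X, MulAction.stabilizer P x = A.subgroupOf P := by
    intro x
    ext g
    rw [MulAction.mem_stabilizer_iff, Subgroup.mem_subgroupOf,
      ← hA _ (x : Q).2 (fun h => x.2 (Subtype.ext h)) g g.2]
    constructor
    · intro h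
      have h1 : (g : G) * ((x : Q) : G) * (g : G)⁻¹ = ((x : Q) : G) := by
        rw [← hsmul, h]
      calc (g : G) * ((x : Q) : G) = ((g : G) * ((x : Q) : G) * (g : G)⁻¹) * g := by group
        _ = ((x : Q) : G) * g := by rw [h1]
    · intro h
      apply Subtype.ext; apply Subtype.ext
      rw [hsmul, h]; group
  have horb : ∀ x : X, Nat.card (MulAction.orbit P x) = A.relIndex P := by
    intro x
    rw [Nat.card_coe_set_eq, ← MulAction.index_stabilizer, hstab]; rfl
  have hX : Nat.card X = Nat.card Q - 1 := by
    have : Fintype Q := Fintype.ofFinite Q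
    rw [Nat.card_eq_fintype_card, Nat.card_eq_fintype_card, Fintype.card_subtype_compl,
      Fintype.card_subtype_eq]
  have : Fintype (Quotient (MulAction.orbitRel P X)) := Fintype.ofFinite _
  rw [← hX, Nat.card_congr (MulAction.selfEquivSigmaOrbits P X), Nat.card_sigma]
  simp only [horb]
  rw [Finset.sum_const, smul_eq_mul]
  exact Dvd.intro_left _ rfl

end Cfsg.Agent.Lib.Helper97.CS3
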