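import Mathlib
import Cfsg.Agent.Lib.Helper79.CS3.EndDefs

/-!
# CS3 (S4284), part [END], package [PCEN]

A non-central normal subgroup `N` of a finite `p`-group `P` contains an element `a` which is
not central, but central modulo `Z(P)` and with `a ^ p ∈ Z(P)`.
-/

set_option autoImplicit false

namespace Cfsg.Agent.Lib.Helper97.CS3

open Cfsg.Agent.Lib.Helper79.CS3

universe u

/-- A nontrivial normal subgroup of a finite `p`-group meets the centre nontrivially. -/
theorem pcen_normal_center {X : Type u} [Group X] [Finite X] {p : ℕ} [Fact p.Prime]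
    (hX : IsPGroup p X) (N : Subgroup X) [hN : N.Normal] (hN1 : N ≠ ⊥) :
    ∃ y ∈ N, y ∈ Subgroup.center X ∧ y ≠ 1 := by
  have hC : IsPGroup p (ConjAct X) := hX
  have hpN : p ∣ Nat.card N := by
    have hNp : IsPGroup p N := hX.to_subgroup N
    obtain ⟨n, hn⟩ := IsPGroup.iff_card.mp hNp
    have hn0 : n ≠ 0 := by
      rintro rfl
      rw [pow_zero] at hn
      exact hN1 ((Subgroup.card_eq_one).mp hn)
    rw [hn]
    exact dvd_pow_self p hn0
  obtain ⟨b, hb, hne⟩ :=
    hC.exists_fixed_point_of_prime_dvd_card_of_fixed_point (α := N) hpN (a := 1)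
      (by intro g; simp)
  refine ⟨b, b.2, ?_, ?_⟩
  · rw [Subgroup.mem_center_iff]
    intro g
    have h1 := hb (ConjAct.toConjAct g)
    have h2 : g * (b : X) * g⁻¹ = (b : X) := by
      have := congrArg Subtype.val h1
      rw [ConjAct.Subgroup.val_conj_smul, ConjAct.smul_def] at this
      simpa using this
    calc g * (b : X) = g * (b : X) * g⁻¹ * g := by group
      _ = (b : X) * g := by rw [h2]
  · intro h
    apply hne
    exact Subtype.ext h.symm

theorem pkgPCen : PkgPCen.{u} := by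
  intro G _ _ p P N hp hP hNP hnorm hnc
  classical
  have : Fact p.Prime := ⟨hp⟩
  let Z : Subgroup P := Subgroup.center P
  let π : P →* P ⧸ Z := QuotientGroup.mk' Z
  have hπ : Function.Surjective π := QuotientGroup.mk'_surjective Z
  let N' : Subgroup (P ⧸ Z) := (N.subgroupOf P).map π
  have hNn : (N.subgroupOf P).Normal := by
    constructor
    intro x hx g
    rw [Subgroup.mem_subgroupOf] at hx ⊢
    exact hnorm g g.2 x hx
  have hN'n : N'.Normal := hNn.map π hπ
  have hmemZ : ∀ b : P, π b = 1 ↔ b ∈ Z := fun b => QuotientGroup.eq_one_iff b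
  have hN'ne : N' ≠ ⊥ := by
    obtain ⟨x, hxN, g, hgP, hxg⟩ := hnc
    intro h
    have h1 : π ⟨x, hNP hxN⟩ ∈ N' :=
      Subgroup.mem_map_of_mem π (Subgroup.mem_subgroupOf.mpr hxN)
    rw [h, Subgroup.mem_bot, hmemZ, Subgroup.mem_center_iff] at h1
    have h3 := h1 ⟨g, hgP⟩
    exact hxg (congrArg Subtype.val h3).symm
  have hX : IsPGroup p (P ⧸ Z) := hP.to_quotient Z
  obtain ⟨y, hyN', hyc, hy1⟩ := pcen_normal_center hX N' hN'ne
  obtain ⟨k, hk⟩ := hX y
  have hex : ∃ k, y ^ p ^ k = 1 := ⟨k, hk⟩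
  have hk1 := Nat.find_spec hex
  have hk0 : Nat.find hex ≠ 0 := by
    intro h0
    rw [h0] at hk1
    simp only [pow_zero, pow_one] at hk1
    exact hy1 hk1
  obtain ⟨j, hj⟩ := Nat.exists_eq_succ_of_ne_zero hk0
  have hj' : Nat.find hex = j + 1 := hj
  have hy' : y ^ p ^ j ≠ 1 := Nat.find_min hex (by omega : j < Nat.find hex)
  have hy'p : (y ^ p ^ j) ^ p = 1 := by rw [← pow_mul, ← pow_succ, ← hj']; exact hk1
  obtain ⟨a₀, ha₀N, ha₀⟩ := Subgroup.mem_map.mp hyN'
  let a : P := a₀ ^ p ^ j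
  have haN : (a : G) ∈ N := by
    have h1 : a ∈ N.subgroupOf P := Subgroup.pow_mem _ ha₀N _
    exact Subgroup.mem_subgroupOf.mp h1
  have hπa : π a = y ^ p ^ j := by rw [map_pow, ha₀]
  have hac : π a ∈ Subgroup.center (P ⧸ Z) := by rw [hπa]; exact Subgroup.pow_mem _ hyc _
  refine ⟨a, haN, ?_, ?_, ?_⟩
  · by_contra hcon
    push Not at hcon
    apply hy'
    rw [← hπa, hmemZ, Subgroup.mem_center_iff]
    intro g
    exact Subtype.ext (hcon g g.2).symm
  · intro g hg h hh
    have h1 : π (a * ⟨g, hg⟩ * a⁻¹ * (⟨g, hg⟩ : P)⁻¹) = 1 := by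
      rw [map_mul, map_mul, map_mul, map_inv, map_inv]
      have h4 := Subgroup.mem_center_iff.mp hac (π ⟨g, hg⟩)
      rw [← h4]; group
    rw [hmemZ, Subgroup.mem_center_iff] at h1
    have h2 := h1 ⟨h, hh⟩
    exact (congrArg Subtype.val h2).symm
  · intro h hh
    have h1 : π (a ^ p) = 1 := by rw [map_pow, hπa]; exact hy'p
    rw [hmemZ, Subgroup.mem_center_iff] at h1
    have h2 := h1 ⟨h, hh⟩
    exact (congrArg Subtype.val h2).symm

end Cfsg.Agent.Lib.Helper97.CS3
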